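import Mathlib

/-! helper7: the subring of fractions `a / b` (`a, b` in a subring, `b` a unit of the ambient
local ring) is a local subring with local inclusion; used to write a local homomorphism of local
rings as a directed union of local subrings essentially of finite type. -/

set_option linter.style.haveILetI false
set_option linter.unusedVariables false
set_option linter.unusedSectionVars false
set_option linter.overlappingInstances false

open IsLocalRing

namespace Groth.Agent.Helper7.FracSub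

universe u

section Frac

variable {T : Type u} [CommRing T]

/-- The subring of fractions `a / b` with `a, b ∈ C` and `b` a unit of the ambient ring. -/
def fracSubring (C : Subring T) : Subring T where
  carrier := {z | ∃ b ∈ C, IsUnit b ∧ z * b ∈ C}
  mul_mem' := by
    rintro z w ⟨b, hb, hbu, hzb⟩ ⟨c, hc, hcu, hwc⟩
    refine ⟨b * c, C.mul_mem hb hc, hbu.mul hcu, ?_⟩
    have : (z * w) * (b * c) = (z * b) * (w * c) := by ring
    rw [this]
    exact C.mul_mem hzb hwc
  one_mem' := ⟨1, C.one_mem, isUnit_one, by rw [mul_one]; exact C.one_mem⟩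
  add_mem' := by
    rintro z w ⟨b, hb, hbu, hzb⟩ ⟨c, hc, hcu, hwc⟩
    refine ⟨b * c, C.mul_mem hb hc, hbu.mul hcu, ?_⟩
    have : (z + w) * (b * c) = (z * b) * c + (w * c) * b := by ring
    rw [this]
    exact C.add_mem (C.mul_mem hzb hc) (C.mul_mem hwc hb)
  zero_mem' := ⟨1, C.one_mem, isUnit_one, by rw [mul_one]; exact C.zero_mem⟩
  neg_mem' := by
    rintro z ⟨b, hb, hbu, hzb⟩
    refine ⟨b, hb, hbu, ?_⟩
    rw [neg_mul]
    exact C.neg_mem hzb

theorem mem_fracSubring {C : Subring T} {z : T} :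
    z ∈ fracSubring C ↔ ∃ b ∈ C, IsUnit b ∧ z * b ∈ C := Iff.rfl

theorem le_fracSubring (C : Subring T) : C ≤ fracSubring C := fun z hz =>
  ⟨1, C.one_mem, isUnit_one, by rwa [mul_one]⟩

/-- A member of the fraction subring which is a unit of the ambient ring is a unit there. -/
theorem isUnit_of_isUnit_val {C : Subring T} (z : fracSubring C) (hz : IsUnit (z : T)) :
    IsUnit z := by
  obtain ⟨b, hb, hbu, hzb⟩ := z.2
  have hau : IsUnit ((z : T) * b) := hz.mul hbu
  obtain ⟨a, ha⟩ := hau
  have hw : b * (a⁻¹ : Tˣ) ∈ fracSubring C := by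
    refine ⟨(z : T) * b, hzb, hz.mul hbu, ?_⟩
    rw [← ha, mul_assoc, Units.inv_mul, mul_one]
    exact hb
  refine IsUnit.of_mul_eq_one (⟨b * (a⁻¹ : Tˣ), hw⟩ : fracSubring C) ?_
  apply Subtype.ext
  show (z : T) * (b * (a⁻¹ : Tˣ)) = 1
  rw [← mul_assoc, ← ha, Units.mul_inv]

variable [IsLocalRing T]

theorem isLocalRing_fracSubring (C : Subring T) : IsLocalRing (fracSubring C) := by
  apply IsLocalRing.of_nonunits_add
  intro a b ha hb
  have ha' : (a : T) ∈ nonunits T := fun h => ha (isUnit_of_isUnit_val a h)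
  have hb' : (b : T) ∈ nonunits T := fun h => hb (isUnit_of_isUnit_val b h)
  have hab := IsLocalRing.nonunits_add ha' hb'
  intro h
  exact hab (h.map (fracSubring C).subtype)

theorem isLocalHom_subtype (C : Subring T) : IsLocalHom (fracSubring C).subtype :=
  ⟨fun a ha => isUnit_of_isUnit_val a ha⟩

end Frac

section Ess

variable {T : Type u} [CommRing T]

theorem exists_mem_closure_of_mem_closure (R₀ : Subring T) (X : Set T) (Y : Set R₀)
    (hXY : ∀ x ∈ X, ∃ y ∈ Y, (y : T) = x) :
    ∀ x ∈ Subring.closure X, ∃ y ∈ Subring.closure Y, (y : T) = x := by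
  intro x hx
  induction hx using Subring.closure_induction with
  | mem x hx =>
    obtain ⟨y, hy, rfl⟩ := hXY x hx
    exact ⟨y, Subring.subset_closure hy, rfl⟩
  | zero => exact ⟨0, Subring.zero_mem _, rfl⟩
  | one => exact ⟨1, Subring.one_mem _, rfl⟩
  | add x y _ _ hx hy =>
    obtain ⟨x', hx', rfl⟩ := hx
    obtain ⟨y', hy', rfl⟩ := hy
    exact ⟨x' + y', Subring.add_mem _ hx' hy', rfl⟩
  | neg x _ hx =>
    obtain ⟨x', hx', rfl⟩ := hx
    exact ⟨-x', Subring.neg_mem _ hx', rfl⟩
  | mul x y _ _ hx hy =>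
    obtain ⟨x', hx', rfl⟩ := hx
    obtain ⟨y', hy', rfl⟩ := hy
    exact ⟨x' * y', Subring.mul_mem _ hx' hy', rfl⟩

/-- A ring map into a fraction subring whose "numerator ring" is generated by the image and
finitely many elements is essentially of finite type. -/
theorem essFiniteType_of_fracSubring {A : Type*} [CommRing A] (C : Subring T)
    (f : A →+* fracSubring C) (σ : Finset (fracSubring C))
    (hC : ∀ x ∈ C, ∃ y ∈ Subring.closure (Set.range f ∪ (σ : Set (fracSubring C))), (y : T) = x) :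
    f.EssFiniteType := by
  unfold RingHom.EssFiniteType
  letI := f.toAlgebra
  rw [Algebra.essFiniteType_iff]
  refine ⟨σ, fun s => ?_⟩
  have hmem : ∀ y : fracSubring C, y ∈ Subring.closure (Set.range f ∪ (σ : Set (fracSubring C))) →
      y ∈ Algebra.adjoin A (σ : Set (fracSubring C)) := by
    intro y hy
    have := Algebra.adjoin_eq_ring_closure (R := A) (σ : Set (fracSubring C))
    rw [← Subalgebra.mem_toSubring, this]
    exact hy
  obtain ⟨b, hb, hbu, hsb⟩ := s.2
  obtain ⟨b', hb', hbb'⟩ := hC b hb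
  obtain ⟨c', hc', hcc'⟩ := hC _ hsb
  refine ⟨b', hmem b' hb', isUnit_of_isUnit_val b' (by rw [hbb']; exact hbu), ?_⟩
  have : s * b' = c' := by
    apply Subtype.ext
    show (s : T) * (b' : T) = c'
    rw [hbb', hcc']
  rw [this]
  exact hmem c' hc'

end Ess

theorem main (R S : Type u) [CommRing R] [CommRing S] [IsLocalRing R]
    [IsLocalRing S] [Algebra R S] [IsLocalHom (algebraMap R S)] (E : Finset R) (F : Finset S) :
    ∃ (R₀ : Subring R) (S₀ : Subring S) (h : ∀ x ∈ R₀, algebraMap R S x ∈ S₀),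
      (E : Set R) ⊆ R₀ ∧ (F : Set S) ⊆ S₀ ∧ ∃ (_ : IsLocalRing R₀) (_ : IsLocalRing S₀),
        IsLocalHom R₀.subtype ∧ IsLocalHom S₀.subtype ∧
          IsLocalHom ((algebraMap R S).restrict R₀ S₀ h) ∧
          (algebraMap ℤ R₀).EssFiniteType ∧ ((algebraMap R S).restrict R₀ S₀ h).EssFiniteType := by
  classical
  set CR : Subring R := Subring.closure (E : Set R) with hCR
  set R₀ : Subring R := fracSubring CR with hR₀
  set CS : Subring S := Subring.closure ((algebraMap R S) '' (R₀ : Set R) ∪ (F : Set S)) with hCS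
  set S₀ : Subring S := fracSubring CS with hS₀
  have hER : (E : Set R) ⊆ R₀ := fun x hx => le_fracSubring CR (Subring.subset_closure hx)
  have hFS : (F : Set S) ⊆ S₀ := fun x hx =>
    le_fracSubring CS (Subring.subset_closure (Or.inr hx))
  have h : ∀ x ∈ R₀, algebraMap R S x ∈ S₀ := fun x hx =>
    le_fracSubring CS (Subring.subset_closure (Or.inl ⟨x, hx, rfl⟩))
  haveI hlR : IsLocalRing R₀ := isLocalRing_fracSubring CR
  haveI hlS : IsLocalRing S₀ := isLocalRing_fracSubring CS
  refine ⟨R₀, S₀, h, hER, hFS, hlR, hlS, isLocalHom_subtype CR, isLocalHom_subtype CS, ?_, ?_, ?_⟩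
  · refine ⟨fun a ha => ?_⟩
    apply isUnit_of_isUnit_val
    have h1 : IsUnit (algebraMap R S (a : R)) := ha.map S₀.subtype
    exact isUnit_of_map_unit (algebraMap R S) _ h1
  · let E' : Finset R₀ := E.attach.image (fun e => ⟨e.1, hER e.2⟩)
    apply essFiniteType_of_fracSubring CR (algebraMap ℤ R₀) E'
    apply exists_mem_closure_of_mem_closure
    intro x hx
    refine ⟨⟨x, hER hx⟩, Or.inr ?_, rfl⟩
    rw [Finset.mem_coe, Finset.mem_image]
    exact ⟨⟨x, hx⟩, Finset.mem_attach _ _, rfl⟩
  · let F' : Finset S₀ := F.attach.image (fun e => ⟨e.1, hFS e.2⟩)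
    apply essFiniteType_of_fracSubring CS ((algebraMap R S).restrict R₀ S₀ h) F'
    apply exists_mem_closure_of_mem_closure
    rintro x (⟨r, hr, rfl⟩ | hx)
    · exact ⟨⟨algebraMap R S r, h r hr⟩, Or.inl ⟨⟨r, hr⟩, rfl⟩, rfl⟩
    · refine ⟨⟨x, hFS hx⟩, Or.inr ?_, rfl⟩
      rw [Finset.mem_coe, Finset.mem_image]
      exact ⟨⟨x, hx⟩, Finset.mem_attach _ _, rfl⟩

end Groth.Agent.Helper7.FracSub
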